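import Groth.Agent.H60.Contract.Quot
import Groth.Agent.Lib.GrpSch.Blanchard
import Groth.Agent.Lib.DescAlg.Descends

/-!
# `f_* O = O` for `f : G/H → G/H'`
-/

set_option autoImplicit false
set_option linter.style.haveILetI false

universe u

open CategoryTheory CategoryTheory.Limits MonoidalCategory CartesianMonoidalCategory MonObj GrpObj AlgebraicGeometry
  Opposite

namespace Groth.Agent.H60.Contract

open Groth.Agent.Lib Groth.Agent.H2.Rigid Groth.Agent.Lib.GrpQ.ThirdIso

theorem appTop_injective_of_epi {X Y : Scheme.{u}} (p : X ⟶ Y) [Epi p] : Function.Injective p.appTop.hom := by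
  intro a b h
  have e : p ≫ fnHom a = p ≫ fnHom b := by rw [comp_fnHom, comp_fnHom, h]
  rw [cancel_epi] at e
  rw [← fnHom_appTop a, ← fnHom_appTop b, e]

theorem fnHom_inj {X : Scheme.{u}} {a b : Γ(X, ⊤)} (h : fnHom a = fnHom b) : a = b := by
  rw [← fnHom_appTop a, ← fnHom_appTop b, h]

variable {S : Scheme.{u}} {G H H' X X' Y : Over S} [GrpObj G] [GrpObj H] [GrpObj H']
  {k : H' ⟶ G} [IsMonHom k] {q : G ⟶ X} {q' : G ⟶ X'} {f : X ⟶ X'} {r : H' ⟶ Y}

/-- `f_* O = O` descends from `fst : G × Y → G`. -/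
theorem push_of_act (hq : Surjective q.left ∧ Flat q.left ∧ LocallyOfFinitePresentation q.left)
    (hq' : RedSub.IsQuotient k q') (hf : q ≫ f = q') (a : G ⊗ Y ⟶ X)
    (ha : a ≫ f = fst G Y ≫ q')
    (hkey : ∀ {T : Over S} (g : T ⟶ G) (h : T ⟶ H'), lift g (h ≫ r) ≫ a = (g * (h ≫ k)) ≫ q)
    (hP : Push (fst G Y).left) : Push f.left := by
  haveI := hq.1; haveI := hq.2.1; haveI := hq.2.2
  haveI : Surjective (q.left ≫ f.left) := by rw [← Over.comp_left, hf]; exact hq'.1
  haveI : Flat (q.left ≫ f.left) := by rw [← Over.comp_left, hf]; exact hq'.2.1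
  haveI : LocallyOfFinitePresentation (q.left ≫ f.left) := by rw [← Over.comp_left, hf]; exact hq'.2.2.1
  intro U
  suffices Function.Bijective (f.left ∣_ U).appTop.hom by
    have h1 : IsIso (f.left ∣_ U).appTop := (ConcreteCategory.isIso_iff_bijective _).2 this
    haveI h1' : IsIso (f.left.app (U.ι ''ᵁ ⊤) ≫
        X.left.presheaf.map (eqToHom (image_morphismRestrict_preimage f.left U ⊤)).op) :=
      (morphismRestrict_appTop f.left U) ▸ h1
    have h2 : IsIso (f.left.app (U.ι ''ᵁ ⊤)) := IsIso.of_isIso_comp_right _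
      (X.left.presheaf.map (eqToHom (image_morphismRestrict_preimage f.left U ⊤)).op)
    rw [U.ι_image_top] at h2
    exact ConcreteCategory.bijective_of_isIso _
  let V := f.left ⁻¹ᵁ U
  let U' := q.left ⁻¹ᵁ V
  let qV : (U' : Scheme.{u}) ⟶ V := q.left ∣_ V
  let fU : (V : Scheme.{u}) ⟶ U := f.left ∣_ U
  let p : (U' : Scheme.{u}) ⟶ U := qV ≫ fU
  haveI hff : Flat f.left := Groth.Agent.Lib.Flat55.FlatDescend.flat_of_comp q.left f.left
  haveI hfs : Surjective f.left := Surjective.of_comp q.left f.left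
  haveI hfl : LocallyOfFinitePresentation f.left :=
    Groth.Agent.H14.FppfDesc.Scheme.locallyOfFinitePresentation_of_comp q.left f.left inferInstance
  haveI : Flat qV := IsZariskiLocalAtTarget.restrict (P := @Flat) inferInstance V
  haveI : Surjective qV := IsZariskiLocalAtTarget.restrict (P := @Surjective) inferInstance V
  haveI : LocallyOfFinitePresentation qV :=
    IsZariskiLocalAtTarget.restrict (P := @LocallyOfFinitePresentation) inferInstance V
  haveI : Flat fU := IsZariskiLocalAtTarget.restrict (P := @Flat) inferInstance U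
  haveI : Surjective fU := IsZariskiLocalAtTarget.restrict (P := @Surjective) inferInstance U
  haveI : LocallyOfFinitePresentation fU :=
    IsZariskiLocalAtTarget.restrict (P := @LocallyOfFinitePresentation) inferInstance U
  haveI : Flat p := inferInstanceAs (Flat (qV ≫ fU))
  haveI : Surjective p := inferInstanceAs (Surjective (qV ≫ fU))
  haveI : LocallyOfFinitePresentation p := inferInstanceAs (LocallyOfFinitePresentation (qV ≫ fU))
  refine ⟨fun b c hbc => ?_, fun s => ?_⟩
  · refine appTop_injective_of_epi p ?_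
    show (qV ≫ fU).appTop.hom b = (qV ≫ fU).appTop.hom c
    rw [Scheme.Hom.comp_appTop, CommRingCat.comp_apply, CommRingCat.comp_apply]
    exact congrArg _ hbc
  -- the restriction of `a` over `U`
  let W := (fst G Y).left ⁻¹ᵁ U'
  let g' : (W : Scheme.{u}) ⟶ U' := (fst G Y).left ∣_ U'
  have hW : W ≤ a.left ⁻¹ᵁ V := by
    intro x hx
    have e : f.left (a.left x) = f.left (q.left ((fst G Y).left x)) := by
      rw [← Scheme.Hom.comp_apply, ← Over.comp_left, ha, ← hf, Over.comp_left, Over.comp_left,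
        Scheme.Hom.comp_apply, Scheme.Hom.comp_apply]
    show f.left (a.left x) ∈ U
    rw [e]
    exact hx
  let aW : (W : Scheme.{u}) ⟶ V := a.left.resLE V W hW
  obtain ⟨t, ht⟩ := ((hP.restrict U') ⊤).2 (aW.appTop.hom s)
  have hconst : aW ≫ fnHom s = g' ≫ fnHom t := by
    rw [comp_fnHom, comp_fnHom]
    exact congrArg fnHom ht.symm
  have key : ∀ {Z : Scheme.{u}} (g₁ g₂ : Z ⟶ (U' : Scheme.{u})), g₁ ≫ p = g₂ ≫ p →
      g₁ ≫ qV ≫ fnHom s = g₂ ≫ qV ≫ fnHom s := by
    intro Z g₁ g₂ hg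
    have hU : (g₁ ≫ U'.ι) ≫ (q ≫ f).left = (g₂ ≫ U'.ι) ≫ (q ≫ f).left := by
      have := congr($hg ≫ U.ι)
      simp only [p, qV, fU, V, U', Category.assoc, morphismRestrict_ι, morphismRestrict_ι_assoc] at this
      simp only [U', V, Category.assoc, Over.comp_left]
      exact this
    have hw : (g₂ ≫ U'.ι) ≫ G.hom = (g₁ ≫ U'.ι) ≫ G.hom := by
      have := congr($hU ≫ X'.hom)
      simp only [Category.assoc, Over.w (q ≫ f)] at this ⊢
      exact this.symm
    let T : Over S := Over.mk ((g₁ ≫ U'.ι) ≫ G.hom)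
    let d₁ : T ⟶ G := Over.homMk (g₁ ≫ U'.ι) rfl
    let d₂ : T ⟶ G := Over.homMk (g₂ ≫ U'.ι) hw
    obtain ⟨m, hm⟩ := (rel_iff hq' d₁ d₂).1 (by rw [← hf]; exact Over.OverMorphism.ext hU)
    have pts : ∀ (h : T ⟶ H') (d : T ⟶ G) (g : Z ⟶ (U' : Scheme.{u})), d₁ * (h ≫ k) = d → d.left = g ≫ U'.ι →
        g ≫ qV ≫ fnHom s = g₁ ≫ fnHom t := by
      intro h d g hd hdl
      let n : T ⟶ G ⊗ Y := lift d₁ (h ≫ r)
      have hn1 : n.left ≫ (fst G Y).left = g₁ ≫ U'.ι := by
        rw [← Over.comp_left, lift_fst]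
        rfl
      have hr : Set.range n.left ⊆ Set.range W.ι := by
        rintro _ ⟨z, rfl⟩
        rw [Scheme.Opens.range_ι]
        show (fst G Y).left (n.left z) ∈ U'
        rw [← Scheme.Hom.comp_apply, hn1]
        exact (g₁ z).2
      let nW : Z ⟶ (W : Scheme.{u}) := IsOpenImmersion.lift W.ι n.left hr
      have hnW : nW ≫ W.ι = n.left := IsOpenImmersion.lift_fac _ _ _
      have e1 : nW ≫ g' = g₁ := by
        rw [← cancel_mono U'.ι, Category.assoc]
        simp only [g', morphismRestrict_ι]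
        rw [reassoc_of% hnW, hn1]
      have e2 : nW ≫ aW = g ≫ qV := by
        rw [← cancel_mono V.ι, Category.assoc, Category.assoc]
        simp only [aW, qV, Scheme.Hom.resLE_comp_ι, morphismRestrict_ι]
        rw [reassoc_of% hnW, ← Over.comp_left, hkey, hd, Over.comp_left, hdl, Category.assoc]
      rw [← reassoc_of% e2, hconst, reassoc_of% e1]
    rw [pts 1 d₁ g₁ (by rw [MonObj.one_comp, _root_.mul_one]) rfl, pts m d₂ g₂ hm.symm rfl]
  let ψ : (U : Scheme.{u}) ⟶ Spec ZT.{u} := EffectiveEpi.desc p (qV ≫ fnHom s) key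
  have hψ : fU ≫ ψ = fnHom s := by
    rw [← cancel_epi qV]
    exact (Category.assoc _ _ _).symm.trans (EffectiveEpi.fac p (qV ≫ fnHom s) key)
  refine ⟨ψ.appTop.hom ((Scheme.ΓSpecIso ZT.{u}).inv.hom (MvPolynomial.X PUnit.unit)), ?_⟩
  refine Eq.trans ?_ (fnHom_appTop s)
  rw [← hψ, Scheme.Hom.comp_appTop]
  rfl

end Groth.Agent.H60.Contract
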