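import Groth.Prelude.Def_RedSub
import Groth.Agent.Lib.GrpQ.ThirdIso

/-!
# The fibration `G/H → G/H'` trivialises over `G` with fibre `H'/H`
-/

set_option autoImplicit false
set_option linter.style.haveILetI false

universe u

open CategoryTheory CategoryTheory.Limits MonoidalCategory CartesianMonoidalCategory MonObj GrpObj AlgebraicGeometry

namespace Groth.Agent.H60.Contract

open Groth.Agent.Lib Groth.Agent.Lib.GrpQ.FfMono Groth.Agent.Lib.GrpQ.ThirdIso

variable {S : Scheme.{u}} {G H H' X X' Y : Over S} [GrpObj G] [GrpObj H] [GrpObj H']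
  {k : H' ⟶ G} [IsMonHom k] [Mono k] {e : H ⟶ H'} [IsMonHom e]
  {q : G ⟶ X} {q' : G ⟶ X'} {f : X ⟶ X'} {r : H' ⟶ Y}

theorem exists_act (hq : RedSub.IsQuotient (e ≫ k) q) (hq' : RedSub.IsQuotient k q') (hf : q ≫ f = q')
    (hr : RedSub.IsQuotient e r) :
    ∃ a : G ⊗ Y ⟶ X, a ≫ f = fst G Y ≫ q' ∧
      (∀ {T : Over S} (g : T ⟶ G) (h : T ⟶ H'), lift g (h ≫ r) ≫ a = (g * (h ≫ k)) ≫ q) ∧
      IsPullback (fst G Y) a q' f := by
  haveI := hr.1; haveI := hr.2.1; haveI := hr.2.2.1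
  haveI : Flat (G ◁ r).left := GrpSch.whiskerLeft_left_of (P := @Flat) G r hr.2.1
  haveI : Surjective (G ◁ r).left := GrpSch.whiskerLeft_left_of (P := @Surjective) G r hr.1
  haveI : LocallyOfFinitePresentation (G ◁ r).left :=
    GrpSch.whiskerLeft_left_of (P := @LocallyOfFinitePresentation) G r hr.2.2.1
  obtain ⟨a, ha⟩ := exists_desc_over (G ◁ r) ((G ◁ k) ≫ μ[G] ≫ q) (fun T z w hzw => by
    have e1 : z ≫ fst G H' = w ≫ fst G H' := by
      have := congr($hzw ≫ fst G Y)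
      simpa only [Category.assoc, whiskerLeft_fst] using this
    have e2 : (z ≫ snd G H') ≫ r = (w ≫ snd G H') ≫ r := by
      have := congr($hzw ≫ snd G Y)
      simpa only [Category.assoc, whiskerLeft_snd] using this
    obtain ⟨m, hm⟩ := (rel_iff hr _ _).1 e2
    have ez : z = lift (z ≫ fst G H') (z ≫ snd G H') := by rw [← comp_lift, lift_fst_snd, Category.comp_id]
    have ew : w = lift (w ≫ fst G H') (w ≫ snd G H') := by rw [← comp_lift, lift_fst_snd, Category.comp_id]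
    rw [ez, ew]
    simp only [← Category.assoc]
    simp only [Category.assoc]
    rw [← Category.assoc (G ◁ k), ← Category.assoc (lift _ _), ← Category.assoc (lift (w ≫ fst G H') _), lift_mul, lift_mul]
    refine (rel_iff hq _ _).2 ⟨m, ?_⟩
    simp only [hm, e1, MonObj.mul_comp, Category.assoc, _root_.mul_assoc])
  have hkey : ∀ {T : Over S} (g : T ⟶ G) (h : T ⟶ H'), lift g (h ≫ r) ≫ a = (g * (h ≫ k)) ≫ q := by
    intro T g h
    rw [← lift_whiskerLeft, Category.assoc, ha, ← Category.assoc (G ◁ k), ← Category.assoc, lift_mul]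
  have hw : a ≫ f = fst G Y ≫ q' := cancel_over (G ◁ r) (by
    have h2 := hq'.2.2.2.w
    rw [reassoc_of% ha, hf, ← Category.assoc (G ◁ r), whiskerLeft_fst]
    exact (h2.trans (Category.assoc _ _ _)).symm)
  have huniq : ∀ {U : Over S} (n n' : U ⟶ G ⊗ Y), n ≫ fst G Y = n' ≫ fst G Y → n ≫ a = n' ≫ a →
      n = n' := by
    intro U n n' h1 h2
    obtain ⟨U₂, c₂, x, hx, _, _, _⟩ := exists_lift r (n ≫ snd G Y)
    obtain ⟨U₃, c₃, x', hx', _, _, _⟩ := exists_lift r (c₂ ≫ n' ≫ snd G Y)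
    have e1 : c₃ ≫ c₂ ≫ n = lift (c₃ ≫ c₂ ≫ n ≫ fst G Y) ((c₃ ≫ x) ≫ r) := by
      apply CartesianMonoidalCategory.hom_ext
      · simp only [Category.assoc, lift_fst]
      · simp only [Category.assoc, lift_snd, hx]
    have e2 : c₃ ≫ c₂ ≫ n' = lift (c₃ ≫ c₂ ≫ n ≫ fst G Y) (x' ≫ r) := by
      apply CartesianMonoidalCategory.hom_ext
      · simp only [Category.assoc, lift_fst, h1]
      · simp only [Category.assoc, lift_snd, hx']
    have h3 : ((c₃ ≫ c₂ ≫ n ≫ fst G Y) * ((c₃ ≫ x) ≫ k)) ≫ q =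
        ((c₃ ≫ c₂ ≫ n ≫ fst G Y) * (x' ≫ k)) ≫ q := by
      rw [← hkey, ← hkey, ← e1, ← e2]
      simp only [Category.assoc, h2]
    obtain ⟨m, hm⟩ := (rel_iff hq _ _).1 h3
    rw [_root_.mul_assoc, mul_left_cancel_iff, ← Category.assoc m e k, ← MonObj.mul_comp, cancel_mono] at hm
    have h4 : (c₃ ≫ x) ≫ r = x' ≫ r := (rel_iff hr _ _).2 ⟨m, hm⟩
    exact cancel_over c₂ (cancel_over c₃ (by rw [e1, e2, h4]))
  have hex : ∀ {U : Over S} (g : U ⟶ G) (x : U ⟶ X), g ≫ q' = x ≫ f →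
      ∃ n : U ⟶ G ⊗ Y, n ≫ fst G Y = g ∧ n ≫ a = x := by
    intro U g x hgx
    haveI := hq.1; haveI := hq.2.1; haveI := hq.2.2.1
    obtain ⟨U₁, c, g₂, hg₂, _, _, _⟩ := exists_lift q x
    obtain ⟨h, hh⟩ := (rel_iff hq' (c ≫ g) g₂).1 (by
      rw [Category.assoc, hgx, ← hf, reassoc_of% hg₂])
    have hn1 : lift (c ≫ g) (h ≫ r) ≫ fst G Y = c ≫ g := lift_fst _ _
    have hn2 : lift (c ≫ g) (h ≫ r) ≫ a = c ≫ x := by rw [hkey, ← hh, hg₂]
    obtain ⟨n, hn⟩ := exists_desc_over c (lift (c ≫ g) (h ≫ r)) fun W y z eyz => huniq _ _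
      (by rw [Category.assoc, Category.assoc, hn1, reassoc_of% eyz])
      (by rw [Category.assoc, Category.assoc, hn2, reassoc_of% eyz])
    exact ⟨n, cancel_over c (by rw [reassoc_of% hn, hn1]), cancel_over c (by rw [reassoc_of% hn, hn2])⟩
  refine ⟨a, hw, @hkey, ⟨⟨hw.symm⟩, ⟨PullbackCone.IsLimit.mk _ (fun s => (hex s.fst s.snd s.condition).choose)
    (fun s => (hex s.fst s.snd s.condition).choose_spec.1) (fun s => (hex s.fst s.snd s.condition).choose_spec.2)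
    (fun s m h1 h2 => huniq _ _ (h1.trans (hex s.fst s.snd s.condition).choose_spec.1.symm)
      (h2.trans (hex s.fst s.snd s.condition).choose_spec.2.symm))⟩⟩⟩

end Groth.Agent.H60.Contract
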